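import Cfsg.Agent.H128.CS.Lin

/-!
# S3677, lattice `lat_psp_odd`: the centralizer of `x` (helper128, task 4435)
-/

set_option autoImplicit false
set_option linter.unusedSectionVars false

namespace Cfsg.Agent.H128.CS

open Module Polynomial Cfsg.Agent.H326.CGU

universe u v

variable {F : Type u} {V : Type v} [Field F] [Finite F] [AddCommGroup V] [Module F V] [FiniteDimensional F V]
  {B : LinearMap.BilinForm F V} {ε : F}

/-- dual pairs of totally singular subspaces -/
structure Pr (B : LinearMap.BilinForm F V) (W1 W2 : Submodule F V) : Prop where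
  compl : IsCompl W1 W2
  d : finrank F W1 = finrank F W2
  ts1 : ∀ u ∈ W1, ∀ v ∈ W1, B u v = 0
  ts2 : ∀ u ∈ W2, ∀ v ∈ W2, B u v = 0

variable {W1 W2 : Submodule F V} (hP : Pr B W1 W2) (hnd : ∀ u, (∀ v, B u v = 0) → u = 0)
  (hε : ∀ u v, B v u = ε * B u v)

include hP in
theorem Pr.exists_add (v : V) : ∃ v1 ∈ W1, ∃ v2 ∈ W2, v1 + v2 = v := by
  have hv : v ∈ W1 ⊔ W2 := by rw [hP.compl.sup_eq_top]; exact Submodule.mem_top
  exact Submodule.mem_sup.1 hv

include hP hnd hε in
theorem Pr.eq_zero {v : V} (hv : v ∈ W2) (h : ∀ u ∈ W1, B u v = 0) : v = 0 := by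
  apply hnd
  intro t
  obtain ⟨t1, h1, t2, h2, rfl⟩ := hP.exists_add t
  rw [hε, map_add, LinearMap.add_apply, h t1 h1, hP.ts2 t2 h2 v hv, add_zero, mul_zero]

include hP hnd hε in
theorem Pr.eq_of {v v' : V} (hv : v ∈ W2) (hv' : v' ∈ W2) (h : ∀ u ∈ W1, B u v = B u v') : v = v' := by
  rw [← sub_eq_zero]
  apply hP.eq_zero hnd hε (W2.sub_mem hv hv')
  intro u hu
  rw [map_sub, h u hu, sub_self]

include hP hnd hε in
/-- the second half of an isometry -/
theorem Pr.exists_dual (g1 : W1 ≃ₗ[F] W1) : ∃ g2 : W2 ≃ₗ[F] W2, ∀ (u : W1) (v : W2),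
    B (u : V) (g2 v : V) = B (g1.symm u : V) (v : V) := by
  let D : W2 →ₗ[F] Dual F W1 :=
    { toFun := fun v => ((B.flip (v : V)).comp W1.subtype)
      map_add' := fun a b => by
        apply LinearMap.ext
        intro u
        show B (u : V) ((a + b : W2) : V) = B (u : V) (a : V) + B (u : V) (b : V)
        rw [Submodule.coe_add, map_add]
      map_smul' := fun c a => by
        apply LinearMap.ext
        intro u
        show B (u : V) ((c • a : W2) : V) = c • B (u : V) (a : V)
        rw [Submodule.coe_smul, map_smul] }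
  have hD : ∀ (v : W2) (u : W1), D v u = B (u : V) (v : V) := fun _ _ => rfl
  have hi : Function.Injective D := by
    intro v v' h
    apply Subtype.ext
    apply hP.eq_of hnd hε v.2 v'.2
    intro u hu
    exact LinearMap.congr_fun h (⟨u, hu⟩ : W1)
  let De : W2 ≃ₗ[F] Dual F W1 := LinearEquiv.ofInjectiveOfFinrankEq D hi (by
    rw [Subspace.dual_finrank_eq, hP.d])
  have hDe : ∀ (v : W2) (u : W1), De v u = B (u : V) (v : V) := fun v u => rfl
  refine ⟨(De.trans g1.symm.dualMap).trans De.symm, fun u v => ?_⟩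
  have h1 := hDe (((De.trans g1.symm.dualMap).trans De.symm) v) u
  rw [← h1]
  show De (De.symm (g1.symm.dualMap (De v))) u = _
  rw [De.apply_symm_apply]
  show De v (g1.symm u) = _
  rw [hDe]

include hP hnd hε in
/-- isometries commuting with `x`, and linear maps of `W₁` commuting with `x` -/
theorem Pr.card_eq {X X' : Module.End F V} (hX : ∀ v ∈ W1, X v ∈ W1) (hX2 : ∀ v ∈ W2, X v ∈ W2)
    (hX' : ∀ v ∈ W1, X' v ∈ W1) (hXX' : X * X' = 1) (hX'X : X' * X = 1)
    (hadj : ∀ u v, B (X u) v = B u (X' v))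
    (h1 : ∀ g : Module.End F V, Commute g X → ∀ v ∈ W1, g v ∈ W1)
    (h2 : ∀ g : Module.End F V, Commute g X → ∀ v ∈ W2, g v ∈ W2) :
    Nat.card {g : V ≃ₗ[F] V // (∀ u v, B (g u) (g v) = B u v) ∧ ∀ v, g (X v) = X (g v)} =
      Nat.card {g : W1 ≃ₗ[F] W1 // ∀ v, g (X.restrict hX v) = X.restrict hX (g v)} := by
  have hadj' : ∀ u v, B u (X v) = B (X' u) v := by
    intro u v
    have e : u = X (X' u) := (LinearMap.congr_fun hXX' u).symm
    conv_lhs => rw [e]
    rw [hadj]
    congr 1
    exact LinearMap.congr_fun hX'X v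
  have hgc : ∀ g : {g : V ≃ₗ[F] V // (∀ u v, B (g u) (g v) = B u v) ∧ ∀ v, g (X v) = X (g v)},
      Commute (g.1 : Module.End F V) X := fun g => LinearMap.ext g.2.2
  have hinj : ∀ g : V ≃ₗ[F] V, ∀ h : ∀ v ∈ W1, (g : Module.End F V) v ∈ W1,
      Function.Injective ((g : Module.End F V).restrict h) := by
    intro g h x y hxy
    exact Subtype.ext (g.injective (congrArg Subtype.val hxy))
  let φ : {g : V ≃ₗ[F] V // (∀ u v, B (g u) (g v) = B u v) ∧ ∀ v, g (X v) = X (g v)} →
      {g : W1 ≃ₗ[F] W1 // ∀ v, g (X.restrict hX v) = X.restrict hX (g v)} := fun g =>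
    ⟨LinearEquiv.ofInjectiveEndo ((g.1 : Module.End F V).restrict (h1 _ (hgc g))) (hinj g.1 _), fun v => by
      apply Subtype.ext
      exact g.2.2 (v : V)⟩
  have hφ : ∀ g (v : W1), ((φ g).1 v : V) = g.1 (v : V) := fun g v => rfl
  apply Nat.card_eq_of_bijective φ
  constructor
  · intro g g' hgg
    have e1 : ∀ v ∈ W1, g.1 v = g'.1 v := by
      intro v hv
      rw [← hφ g ⟨v, hv⟩, ← hφ g' ⟨v, hv⟩, hgg]
    apply Subtype.ext
    apply LinearEquiv.ext
    intro v
    obtain ⟨v1, hv1, v2, hv2, rfl⟩ := hP.exists_add v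
    rw [map_add, map_add, e1 v1 hv1]
    congr 1
    apply hP.eq_of hnd hε (h2 _ (hgc g) v2 hv2) (h2 _ (hgc g') v2 hv2)
    intro u hu
    obtain ⟨u', hu'⟩ := (φ g).1.surjective ⟨u, hu⟩
    have e2 : g.1 (u' : V) = u := by rw [← hφ, hu']
    have e3 : g'.1 (u' : V) = u := by rw [← e1 u' u'.2, e2]
    show B u (g.1 v2) = B u (g'.1 v2)
    rw [← e2, g.2.1, e2, ← e3, g'.2.1]
  · rintro ⟨g1, hg1⟩
    obtain ⟨g2, hg2⟩ := hP.exists_dual hnd hε g1
    let P := Submodule.prodEquivOfIsCompl W1 W2 hP.compl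
    let g : V ≃ₗ[F] V := (P.symm.trans (g1.prodCongr g2)).trans P
    have hg : ∀ (v1 : W1) (v2 : W2), g ((v1 : V) + v2) = (g1 v1 : V) + g2 v2 := by
      intro v1 v2
      have e1 : P (v1, v2) = (v1 : V) + v2 := Submodule.coe_prodEquivOfIsCompl' W1 W2 hP.compl (v1, v2)
      have e2 : P.symm ((v1 : V) + v2) = (v1, v2) := by rw [← e1, P.symm_apply_apply]
      show P ((g1.prodCongr g2) (P.symm ((v1 : V) + v2))) = _
      rw [e2]
      exact Submodule.coe_prodEquivOfIsCompl' W1 W2 hP.compl (g1 v1, g2 v2)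
    have hpair : ∀ (u : W1) (v : W2), B (g1 u : V) (g2 v : V) = B (u : V) (v : V) := by
      intro u v
      rw [hg2, LinearEquiv.symm_apply_apply]
    have hcom2 : ∀ (v : W2), (g2 ⟨X v, hX2 v v.2⟩ : V) = X (g2 v) := by
      intro v
      apply hP.eq_of hnd hε (g2 _).2 (hX2 _ (g2 v).2)
      intro u hu
      have e1 := hg2 ⟨u, hu⟩ ⟨X v, hX2 v v.2⟩
      have e2 := hg2 ⟨X' u, hX' u hu⟩ v
      have e3 : (g1.symm ⟨X' u, hX' u hu⟩ : V) = X' (g1.symm ⟨u, hu⟩) := by
        have e4 : X.restrict hX (g1.symm ⟨X' u, hX' u hu⟩) = g1.symm ⟨u, hu⟩ := by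
          apply g1.injective
          rw [hg1, g1.apply_symm_apply, g1.apply_symm_apply]
          exact Subtype.ext (LinearMap.congr_fun hXX' u)
        rw [← e4]
        show _ = X' (X _)
        exact (LinearMap.congr_fun hX'X _).symm
      rw [e3] at e2
      show B u (g2 ⟨X v, hX2 v v.2⟩) = B u (X (g2 v))
      rw [hadj', e2]
      exact e1.trans (hadj' _ _)
    refine ⟨⟨g, fun u v => ?_, fun v => ?_⟩, ?_⟩
    · obtain ⟨u1, hu1, u2, hu2, rfl⟩ := hP.exists_add u
      obtain ⟨v1, hv1, v2, hv2, rfl⟩ := hP.exists_add v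
      rw [hg ⟨u1, hu1⟩ ⟨u2, hu2⟩, hg ⟨v1, hv1⟩ ⟨v2, hv2⟩]
      simp only [map_add, LinearMap.add_apply]
      rw [hP.ts1 _ (g1 _).2 _ (g1 _).2, hP.ts2 _ (g2 _).2 _ (g2 _).2, hpair, hP.ts1 _ hu1 _ hv1, hP.ts2 _ hu2 _ hv2,
        hε (g1 ⟨v1, hv1⟩ : V) (g2 ⟨u2, hu2⟩ : V), hpair, hε v1 u2]
    · obtain ⟨v1, hv1, v2, hv2, rfl⟩ := hP.exists_add v
      have e1 := hg ⟨v1, hv1⟩ ⟨v2, hv2⟩
      simp only at e1
      have e2 := hg ⟨X v1, hX v1 hv1⟩ ⟨X v2, hX2 v2 hv2⟩
      simp only at e2
      have e3 : X (v1 + v2) = X v1 + X v2 := map_add X _ _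
      rw [e1, e3, e2, map_add, hcom2 ⟨v2, hv2⟩]
      congr 1
      exact congrArg Subtype.val (hg1 ⟨v1, hv1⟩)
    · apply Subtype.ext
      apply LinearEquiv.ext
      intro v
      apply Subtype.ext
      rw [hφ]
      have e1 := hg v 0
      rw [Submodule.coe_zero, add_zero, map_zero, Submodule.coe_zero, add_zero] at e1
      exact e1

/-- `F[W]`-semilinear data: everything about an isometry `x` which commutes with `y` -/
theorem cent_main {Y Y' : Module.End F V} {n : ℕ} {p : F[X]} (hD : Dec B Y Y' n p) (hn0 : 0 < n) (hodd : Odd n)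
    (hYY' : Y * Y' = 1) (hY'Y : Y' * Y = 1)
    (hnd : ∀ u, (∀ v, B u v = 0) → u = 0) (hε : ∀ u v, B v u = ε * B u v)
    {X X' : Module.End F V} (hXX' : X * X' = 1) (hX'X : X' * X = 1) (hadj : ∀ u v, B (X u) v = B u (X' v))
    (hXY : Commute X Y) (hX1 : X ≠ 1) (hX2 : X ≠ -1) :
    ∃ k m, k * m = n ∧ 0 < k ∧ (X * X = Y → m = 1) ∧
      (k ≠ 1 → (2 : F) ≠ 0 → ∀ g : V ≃ₗ[F] V, ¬ ∀ v, g (X v) = - X (g v)) ∧
      Nat.card {g : V ≃ₗ[F] V // (∀ u v, B (g u) (g v) = B u v) ∧ ∀ v, g (X v) = X (g v)} =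
        glCard m (Nat.card F ^ k) := by
  have hk : LinearMap.ker (aeval Y p) ≠ ⊥ := by
    intro h
    have h1 := hD.d1
    rw [h, finrank_bot] at h1
    omega
  obtain ⟨L, _, _, _, _, _, w, hw, hgen, hfr, hroot, hdw⟩ := exists_L hD.irr hk
  have hWn : Nontrivial (LinearMap.ker (aeval Y p)) := Submodule.nontrivial_iff_ne_bot.2 hk
  have hfrn : finrank F L = n := by rw [hfr, hD.deg]
  have hoddL : Odd (finrank F L) := by rw [hfrn]; exact hodd
  have hP : Pr B (LinearMap.ker (aeval Y p)) (LinearMap.ker (aeval Y' p)) :=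
    ⟨hD.compl, by rw [hD.d1, hD.d2], hD.ts1, hD.ts2⟩
  have hfd : FiniteDimensional L (LinearMap.ker (aeval Y p)) := FiniteDimensional.right F L _
  have hdim := Module.finrank_mul_finrank F L (LinearMap.ker (aeval Y p))
  have hL1 : finrank L (LinearMap.ker (aeval Y p)) = 1 := by
    rw [hD.d1, hfrn] at hdim
    exact Nat.eq_of_mul_eq_mul_left hn0 (by rw [hdim, mul_one])
  -- commutations
  have hXY' : Commute X Y' := by
    have e1 : Y' * X = Y' * X * (Y * Y') := by rw [hYY', mul_one]
    have e2 : Y' * X * (Y * Y') = Y' * (X * Y) * Y' := by simp only [mul_assoc]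
    rw [commute_iff_eq, e1, e2, hXY.eq, ← mul_assoc Y', hY'Y, one_mul]
  have hX'Y : Commute X' Y := by
    have e1 : Y * X' = X' * X * (Y * X') := by rw [hX'X, one_mul]
    have e2 : X' * X * (Y * X') = X' * (X * Y) * X' := by simp only [mul_assoc]
    rw [commute_iff_eq, e1, e2, hXY.eq, mul_assoc, mul_assoc, hXX', mul_one]
  have hX'Y' : Commute X' Y' := by
    have e1 : Y' * X' = X' * X * (Y' * X') := by rw [hX'X, one_mul]
    have e2 : X' * X * (Y' * X') = X' * (X * Y') * X' := by simp only [mul_assoc]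
    rw [commute_iff_eq, e1, e2, hXY'.eq, mul_assoc, mul_assoc, hXX', mul_one]
  have hXW1 : ∀ v ∈ LinearMap.ker (aeval Y p), X v ∈ LinearMap.ker (aeval Y p) := fun v hv => comm_ker hXY hv
  have hXW2 : ∀ v ∈ LinearMap.ker (aeval Y' p), X v ∈ LinearMap.ker (aeval Y' p) := fun v hv => comm_ker hXY' hv
  have hX'W1 : ∀ v ∈ LinearMap.ker (aeval Y p), X' v ∈ LinearMap.ker (aeval Y p) := fun v hv => comm_ker hX'Y hv
  have hX'W2 : ∀ v ∈ LinearMap.ker (aeval Y' p), X' v ∈ LinearMap.ker (aeval Y' p) := fun v hv => comm_ker hX'Y' hv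
  have hadj' : ∀ u v, B u (X v) = B (X' u) v := by
    intro u v
    have e : u = X (X' u) := (LinearMap.congr_fun hXX' u).symm
    conv_lhs => rw [e]
    rw [hadj]
    congr 1
    exact LinearMap.congr_fun hX'X v
  -- `X` is a scalar of `L` on `W₁`
  have hswY := aeval_smul (w := w) (Y := Y) hw
  obtain ⟨a, ha⟩ : ∃ a : L, ∀ v : LinearMap.ker (aeval Y p), ((a • v : LinearMap.ker (aeval Y p)) : V) = X v := by
    obtain ⟨v0, hv0⟩ := exists_ne (0 : LinearMap.ker (aeval Y p))
    obtain ⟨a, ha⟩ := (finrank_eq_one_iff_of_nonzero' v0 hv0).1 hL1 ⟨X v0, hXW1 v0 v0.2⟩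
    refine ⟨a, fun v => ?_⟩
    obtain ⟨b, rfl⟩ := (finrank_eq_one_iff_of_nonzero' v0 hv0).1 hL1 v
    obtain ⟨P, rfl⟩ := hgen b
    rw [hswY, smul_comm, hswY, ha]
    exact (comm_aeval hXY P (v0 : V)).symm
  have ha0 : a ≠ 0 := by
    rintro rfl
    obtain ⟨v, hv⟩ := exists_ne (0 : LinearMap.ker (aeval Y p))
    apply hv
    apply Subtype.ext
    have h3 := ha v
    rw [zero_smul] at h3
    have h4 : X' (X v) = v := LinearMap.congr_fun hX'X (v : V)
    rw [← h3] at h4
    rw [← h4]
    exact map_zero X'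
  have hsa := aeval_smul (w := a) (Y := X) ha
  have hsi := aeval_inv_smul (w := a) ha hX'X ha0
  set px := minpoly F a with hpx
  have hirr : Irreducible px := minpoly.irreducible (Algebra.IsIntegral.isIntegral a)
  -- `X` is determined on `V` by its restriction
  have hsgn : ∀ c : F, c * c = 1 → (∀ v ∈ LinearMap.ker (aeval Y p), X v = c • v) → X = c • (1 : Module.End F V) := by
    intro c hc h1
    have h2 : ∀ v ∈ LinearMap.ker (aeval Y' p), X v = c • v := by
      intro v hv
      apply hP.eq_of hnd hε (hXW2 v hv) (Submodule.smul_mem _ c hv)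
      intro u hu
      have h3 : X' u = c • u := by
        have e1 : u = c • X u := by rw [h1 u hu, smul_smul, hc, one_smul]
        conv_lhs => rw [e1, map_smul]
        congr 1
        exact LinearMap.congr_fun hX'X u
      rw [hadj', h3, map_smul, LinearMap.smul_apply, map_smul]
    apply LinearMap.ext
    intro v
    obtain ⟨v1, hv1, v2, hv2, rfl⟩ := hP.exists_add v
    rw [map_add, h1 v1 hv1, h2 v2 hv2]
    show _ = c • (v1 + v2)
    rw [smul_add]
  have hinva : aeval a⁻¹ px ≠ 0 := by
    intro h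
    have h1 := inv_root hoddL h
    have h2 : a * a = 1 := by
      nth_rewrite 1 [← h1]
      exact inv_mul_cancel₀ ha0
    rcases mul_self_eq_one_iff.1 h2 with h3 | h3
    · apply hX1
      have h4 := hsgn 1 (one_mul 1) fun v hv => by
        have h5 := ha ⟨v, hv⟩
        rw [h3, one_smul] at h5
        rw [one_smul]
        exact h5.symm
      rw [h4, one_smul]
    · apply hX2
      have h4 := hsgn (-1) (by ring) fun v hv => by
        have h5 := ha ⟨v, hv⟩
        rw [h3, neg_smul, one_smul] at h5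
        rw [neg_smul, one_smul]
        exact h5.symm
      rw [h4, neg_smul, one_smul]
  have hk1 : ∀ v ∈ LinearMap.ker (aeval Y p), aeval X px v = 0 := by
    intro v hv
    have h1 := hsa px ⟨v, hv⟩
    rw [hpx, minpoly.aeval, zero_smul] at h1
    exact h1.symm
  have hXX'c : Commute X X' := by rw [commute_iff_eq, hXX', hX'X]
  have hmapX' : ∀ v ∈ LinearMap.ker (aeval Y p), aeval X' px v ∈ LinearMap.ker (aeval Y p) := by
    intro v hv
    have h1 := hsi px ⟨v, hv⟩
    rw [← h1]
    exact Subtype.mem _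
  have hi1 : ∀ v ∈ LinearMap.ker (aeval Y p), aeval X' px v = 0 → v = 0 := by
    intro v hv h
    have h1 := hsi px ⟨v, hv⟩
    rw [h] at h1
    rcases smul_eq_zero.1 (Subtype.ext h1 : aeval a⁻¹ px • (⟨v, hv⟩ : LinearMap.ker (aeval Y p)) = 0) with h2 | h2
    · exact absurd h2 hinva
    · exact congrArg Subtype.val h2
  have hadjp := aeval_adj hadj px
  have hadjp' := aeval_adj (W := X') (W' := X) (B := B) (fun u v => (hadj' u v).symm) px
  have hk2 : ∀ v ∈ LinearMap.ker (aeval Y' p), aeval X px v = 0 → v = 0 := by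
    intro v hv h
    apply hP.eq_zero hnd hε hv
    intro u hu
    obtain ⟨u', -, rfl⟩ := exists_preimage hmapX' hi1 hu
    rw [hadjp', h, map_zero]
  have hk3 : ∀ v ∈ LinearMap.ker (aeval Y' p), aeval X' px v = 0 := by
    intro v hv
    have hmem : aeval X' px v ∈ LinearMap.ker (aeval Y' p) := by
      have h1 : Commute (aeval X' px) Y' := by
        rw [Polynomial.aeval_eq_sum_range]
        exact Commute.sum_left _ _ _ fun i _ => (hX'Y'.pow_left i).smul_left _
      exact comm_ker h1 hv
    apply hP.eq_zero hnd hε hmem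
    intro u hu
    rw [← hadjp, hk1 u hu, map_zero, LinearMap.zero_apply]
  have hker1 : ∀ v, v ∈ LinearMap.ker (aeval Y p) ↔ aeval X px v = 0 := by
    intro v
    refine ⟨hk1 v, fun h => ?_⟩
    obtain ⟨v1, hv1, v2, hv2, rfl⟩ := hP.exists_add v
    rw [map_add, hk1 v1 hv1, zero_add] at h
    rw [hk2 v2 hv2 h, add_zero]
    exact hv1
  have hker2 : ∀ v, v ∈ LinearMap.ker (aeval Y' p) ↔ aeval X' px v = 0 := by
    intro v
    refine ⟨hk3 v, fun h => ?_⟩
    obtain ⟨v1, hv1, v2, hv2, rfl⟩ := hP.exists_add v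
    rw [map_add, hk3 v2 hv2, add_zero] at h
    rw [hi1 v1 hv1 h, zero_add]
    exact hv2
  have hc1 : ∀ g : Module.End F V, Commute g X → ∀ v ∈ LinearMap.ker (aeval Y p), g v ∈ LinearMap.ker (aeval Y p) := by
    intro g hg v hv
    rw [hker1] at hv ⊢
    rw [← comm_aeval hg, hv, map_zero]
  have hc2 : ∀ g : Module.End F V, Commute g X → ∀ v ∈ LinearMap.ker (aeval Y' p), g v ∈ LinearMap.ker (aeval Y' p) := by
    intro g hg v hv
    have hg' : Commute g X' := by
      have e1 : X' * g = X' * g * (X * X') := by rw [hXX', mul_one]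
      have e2 : X' * g * (X * X') = X' * (g * X) * X' := by simp only [mul_assoc]
      rw [commute_iff_eq, e1, e2, hg.eq, ← mul_assoc X', hX'X, one_mul]
    rw [hker2] at hv ⊢
    rw [← comm_aeval hg', hv, map_zero]
  -- the count
  have hcard := hP.card_eq hnd hε hXW1 hXW2 hX'W1 hXX' hX'X hadj hc1 hc2
  have hFt := Fintype.ofFinite F
  have hpx0 : aeval (X.restrict hXW1) px = 0 := by
    apply LinearMap.ext
    intro v
    apply Subtype.ext
    have h1 : ∀ (P : F[X]) (v : LinearMap.ker (aeval Y p)), ((aeval (X.restrict hXW1) P v : LinearMap.ker (aeval Y p)) : V) =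
        aeval X P (v : V) := by
      intro P v
      have h2 : ∀ (n : ℕ) (v : LinearMap.ker (aeval Y p)), ((((X.restrict hXW1) ^ n) v : LinearMap.ker (aeval Y p)) : V) =
          (X ^ n) (v : V) := by
        intro n
        induction n with
        | zero => intro v; rfl
        | succ n ih =>
          intro v
          rw [pow_succ, Module.End.mul_apply, ih, pow_succ, Module.End.mul_apply]
          rfl
      induction P using Polynomial.induction_on' with
      | add a b ha hb => rw [map_add, map_add, LinearMap.add_apply, LinearMap.add_apply, Submodule.coe_add, ha, hb]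
      | monomial n a =>
        rw [aeval_monomial, aeval_monomial, Module.End.mul_apply, Module.End.mul_apply, Module.algebraMap_end_apply,
          Module.algebraMap_end_apply, Submodule.coe_smul, h2]
    rw [h1]
    exact hk1 v v.2
  obtain ⟨m, hm1, hm2⟩ := card_cent_irr hirr hpx0
  rw [hD.d1] at hm1
  refine ⟨px.natDegree, m, hm1.symm, hirr.natDegree_pos, ?_, ?_, ?_⟩
  · -- `X² = Y`
    intro hXXY
    have hwa : w = a * a := by
      obtain ⟨v, hv⟩ := exists_ne (0 : LinearMap.ker (aeval Y p))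
      have h1 : (w - a * a) • v = 0 := by
        apply Subtype.ext
        have h2 : X (X v) = Y v := LinearMap.congr_fun hXXY (v : V)
        rw [sub_smul, mul_smul, Submodule.coe_sub, hw, ha, ha, h2, sub_self]
        rfl
      exact sub_eq_zero.1 ((smul_eq_zero.1 h1).resolve_right hv)
    have hwt : IntermediateField.adjoin F {w} = ⊤ := by
      rw [Field.primitive_element_iff_minpoly_natDegree_eq, hdw, hfr]
    have hat : IntermediateField.adjoin F {a} = ⊤ := by
      rw [eq_top_iff, ← hwt, IntermediateField.adjoin_simple_le_iff, hwa]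
      exact mul_mem (IntermediateField.mem_adjoin_simple_self F a) (IntermediateField.mem_adjoin_simple_self F a)
    rw [Field.primitive_element_iff_minpoly_natDegree_eq, hfrn] at hat
    rw [← hpx] at hat
    rw [hat] at hm1
    exact Nat.eq_of_mul_eq_mul_left hn0 (by rw [← hm1, mul_one])
  · -- no element inverts the sign
    intro hk1' h2 g hg
    have hgk : ∀ (P : F[X]) (v : V), g (aeval X P v) = aeval (-X) P (g v) := by
      intro P v
      have h3 : ∀ (n : ℕ) (v : V), g ((X ^ n) v) = ((-X) ^ n) (g v) := by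
        intro n
        induction n with
        | zero => intro v; rfl
        | succ n ih =>
          intro v
          rw [pow_succ, Module.End.mul_apply, ih, pow_succ, Module.End.mul_apply, hg]
          rfl
      induction P using Polynomial.induction_on' with
      | add a b ha hb => rw [map_add, map_add, LinearMap.add_apply, LinearMap.add_apply, map_add, ha, hb]
      | monomial n a =>
        rw [aeval_monomial, aeval_monomial, Module.End.mul_apply, Module.End.mul_apply, Module.algebraMap_end_apply,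
          Module.algebraMap_end_apply, map_smul, h3]
    obtain ⟨v, hv⟩ := exists_ne (0 : LinearMap.ker (aeval Y p))
    have hu0 : g (v : V) ≠ 0 := fun h => hv (Subtype.ext (g.map_eq_zero_iff.1 h))
    have hu1 : aeval (-X) px (g (v : V)) = 0 := by
      rw [← hgk, hk1 v v.2, map_zero]
    obtain ⟨u1, hu1', u2, hu2', hsum⟩ := hP.exists_add (g (v : V))
    have hna : ∀ v : LinearMap.ker (aeval Y p), (((-a) • v : LinearMap.ker (aeval Y p)) : V) = (-X) v := by
      intro v
      rw [neg_smul, Submodule.coe_neg, ha]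
      rfl
    have hsna := aeval_smul (w := -a) (Y := -X) hna
    have hna0 : -a ≠ 0 := neg_ne_zero.2 ha0
    have hsni := aeval_inv_smul (w := -a) (Y := -X) (Y' := -X') hna (by rw [neg_mul_neg, hX'X]) hna0
    have hm1' : aeval (-X) px u1 ∈ LinearMap.ker (aeval Y p) := by
      rw [← hsna px ⟨u1, hu1'⟩]
      exact Subtype.mem _
    have hm2' : aeval (-X) px u2 ∈ LinearMap.ker (aeval Y' p) := by
      have h1 : Commute (aeval (-X) px) Y' := by
        rw [Polynomial.aeval_eq_sum_range]
        exact Commute.sum_left _ _ _ fun i _ => (hXY'.neg_left.pow_left i).smul_left _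
      exact comm_ker h1 hu2'
    have hz : aeval (-X) px u1 = 0 ∧ aeval (-X) px u2 = 0 := by
      rw [← hsum, map_add] at hu1
      have h3 : aeval (-X) px u1 = - aeval (-X) px u2 := eq_neg_of_add_eq_zero_left hu1
      have h4 : aeval (-X) px u1 ∈ LinearMap.ker (aeval Y' p) := by
        rw [h3]
        exact Submodule.neg_mem _ hm2'
      have h5 := (Submodule.disjoint_def.1 hD.compl.disjoint) _ hm1' h4
      refine ⟨h5, ?_⟩
      rw [h5] at h3
      exact neg_eq_zero.1 h3.symm
    by_cases hu10 : u1 = 0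
    · have hu20 : u2 ≠ 0 := by
        rintro rfl
        apply hu0
        rw [← hsum, hu10, add_zero]
      have hroot' : aeval (-a)⁻¹ px = 0 := by
        by_contra hne
        apply hu20
        apply hP.eq_zero hnd hε hu2'
        intro t ht
        have hmap : ∀ v ∈ LinearMap.ker (aeval Y p), aeval (-X') px v ∈ LinearMap.ker (aeval Y p) := by
          intro v hv
          rw [← hsni px ⟨v, hv⟩]
          exact Subtype.mem _
        have hii : ∀ v ∈ LinearMap.ker (aeval Y p), aeval (-X') px v = 0 → v = 0 := by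
          intro v hv h
          have h1 := hsni px ⟨v, hv⟩
          rw [h] at h1
          rcases smul_eq_zero.1 (Subtype.ext h1 : aeval (-a)⁻¹ px • (⟨v, hv⟩ : LinearMap.ker (aeval Y p)) = 0) with h2 | h2
          · exact absurd h2 hne
          · exact congrArg Subtype.val h2
        obtain ⟨t', -, rfl⟩ := exists_preimage hmap hii ht
        have hadjn := aeval_adj (W := -X') (W' := -X) (B := B) (fun u v => by
          rw [LinearMap.neg_apply, LinearMap.neg_apply, map_neg, LinearMap.neg_apply, map_neg, hadj']) px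
        rw [hadjn, hz.2, map_zero]
      rw [inv_neg] at hroot'
      have h5 := neg_inv_root hoddL hroot'
      have h6 : a * a = -1 := by
        nth_rewrite 1 [← h5]
        rw [neg_mul, inv_mul_cancel₀ ha0]
      have h7 : px.natDegree ≤ 2 := by
        have h8 : aeval a (Polynomial.X ^ 2 + 1 : F[X]) = 0 := by
          rw [map_add, map_pow, aeval_X, map_one, pow_two, h6, neg_add_cancel]
        have h9 : (Polynomial.X ^ 2 + 1 : F[X]) ≠ 0 := by
          intro h
          have := congrArg (fun P : F[X] => P.coeff 2) h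
          simp [coeff_one] at this
        refine (natDegree_le_of_dvd (minpoly.dvd F a h8) h9).trans ?_
        compute_degree
      have h10 : px.natDegree ∣ n := ⟨m, hm1⟩
      have h11 := hodd.of_dvd_nat h10
      have h12 := hirr.natDegree_pos
      apply hk1'
      rcases h11 with ⟨j, hj⟩
      omega
    · have h3 := hsna px ⟨u1, hu1'⟩
      have h4 : aeval (-a) px • (⟨u1, hu1'⟩ : LinearMap.ker (aeval Y p)) = 0 := by
        apply Subtype.ext
        rw [h3]
        exact hz.1
      rcases smul_eq_zero.1 h4 with h5 | h5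
      · have h6 := neg_root hoddL h5
        have h7 : (2 : L) * a = 0 := by
          rw [two_mul]
          nth_rewrite 1 [← h6]
          exact neg_add_cancel a
        rcases mul_eq_zero.1 h7 with h8 | h8
        · apply h2
          apply (algebraMap F L).injective
          rw [map_ofNat, map_zero]
          exact h8
        · exact ha0 h8
      · exact hu10 (congrArg Subtype.val h5)
  · rw [hcard, hm2, Nat.card_eq_fintype_card]

end Cfsg.Agent.H128.CS
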